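import Cfsg.Agent.H238.E8.Frame
import Cfsg.Agent.ChevalleyStructure.SparseEng
import Cfsg.Agent.H138.E8L.Mat
import Mathlib

/-!
# S5925, box F2: the action of `N = φ₁(P) φ₂(P)` on `sl(W0) + sl(W1)` (helper183)

`P = -(i ↦ 3i)` in `SL₅`.  `N` maps the root vector `E⁰_ij` to `±E¹_{πi,πj}` and `E¹_ij` to `∓E⁰_{ρj,ρi}`; the signs are
checked with the sparse engine.
-/

set_option autoImplicit false

namespace Cfsg.Agent.H183.E8F

open Matrix Cfsg Cfsg.Lie Cfsg.Agent.ChevalleyStructure Cfsg.Agent.ChevalleyStructure.Elts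
open Cfsg.Agent.ChevalleyStructure.SparseEng
open Cfsg.Agent.H992.E8X Cfsg.Agent.H238.E8
open Cfsg.Agent.H138.E8L

/-- roots of `W0` (`t = 0`) and `W1` (`t = 1`) -/
def wr : Fin 2 → Fin 5 → Fin 5 → ℕ :=
  ![![![0, 31, 6, 64, 24], ![208, 0, 60, 151, 108], ![233, 179, 0, 212, 172], ![175, 88, 27, 0, 81],
      ![215, 131, 67, 158, 0]],
    ![![0, 7, 20, 51, 55], ![232, 0, 168, 199, 203], ![219, 71, 0, 154, 159], ![188, 40, 85, 0, 127],
      ![184, 36, 80, 112, 0]]]

/-- signs of `W0` and `W1` -/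
def ws : Fin 2 → Fin 5 → Fin 5 → ℤ :=
  ![![![1, 1, 1, -1, 1], ![1, 1, 1, -1, -1], ![1, 1, 1, 1, 1], ![-1, -1, 1, 1, 1], ![1, -1, 1, 1, 1]],
    ![![1, 1, -1, -1, 1], ![1, 1, 1, -1, 1], ![-1, 1, 1, 1, -1], ![-1, -1, 1, 1, 1], ![1, 1, -1, 1, 1]]]

/-- code of `c E^t_ij` -/
def cE (t : Fin 2) (i j : Fin 5) (c : ℤ) : List Term := [⟨8 + wr t i j, c * ws t i j, 0, 0⟩]

/-- code of `c [E^t_{a,a+1}, E^t_{a+1,a}]` -/
def cH (t : Fin 2) (a : Fin 4) (c : ℤ) : List Term :=
  (List.range 8).map fun k => ⟨k, c * (chevE8.coroot.getD (wr t a.castSucc a.succ) #[]).getD k 0, 0, 0⟩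

/-- the word of `n_ij = x_ij(1) x_ji(-1) x_ij(1)` in the frame `(r, s)` -/
def nw (r : Fin 5 → Fin 5 → ℕ) (s : Fin 5 → Fin 5 → ℤ) (i j : Fin 5) : List (ℕ × Mon) :=
  [(r i j, ⟨s i j, 0, 0⟩), (r j i, ⟨-s j i, 0, 0⟩), (r i j, ⟨s i j, 0, 0⟩)]

/-- the word of `P` in the frame `(r, s)` -/
def pw (r : Fin 5 → Fin 5 → ℕ) (s : Fin 5 → Fin 5 → ℤ) : List (ℕ × Mon) :=
  nw r s 0 1 ++ (nw r s 0 1 ++ (nw r s 1 2 ++ (nw r s 1 3 ++ nw r s 3 4)))

/-- the word of `N` -/
def Nw : List (ℕ × Mon) := pw rt1 sg1 ++ pw rt2 sg2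

/-- equality of `N` times the vector `v` and the vector `v'` -/
def chk (v v' : List Term) : Bool :=
  (norm (actW chevE8 false Nw v ++ v'.map fun a => (⟨a.k, -a.c, a.i, a.j⟩ : Term))).isEmpty

/-- `π` -/
def pi0 : Fin 5 → Fin 5 := ![0, 3, 1, 4, 2]
/-- `eps` -/
def eps0 : Fin 5 → ℤ := ![1, 1, 1, 1, -1]
/-- `ρ` -/
def pi1 : Fin 5 → Fin 5 := ![2, 0, 3, 1, 4]
/-- `del` -/
def eps1 : Fin 5 → ℤ := ![1, 1, -1, -1, 1]

/-- code of `c (E^t_ii - E^t_jj)` -/
def cD (t : Fin 2) (i j : Fin 5) (c : ℤ) : List Term :=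
  (List.finRange 4).flatMap fun b =>
    cH t b (c * ((if i ≤ b.castSucc then 1 else 0) - (if j ≤ b.castSucc then 1 else 0)))

theorem chk_off0 : ∀ i j, i ≠ j → chk (cE 0 i j 1) (cE 1 (pi0 i) (pi0 j) (eps0 i * eps0 j)) = true := by
  decide +kernel

theorem chk_off1 : ∀ i j, i ≠ j → chk (cE 1 i j 1) (cE 0 (pi1 j) (pi1 i) (-(eps1 i * eps1 j))) = true := by
  decide +kernel

theorem chk_car0 : ∀ a : Fin 4, chk (cH 0 a 1) (cD 1 (pi0 a.castSucc) (pi0 a.succ) 1) = true := by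
  decide +kernel

theorem chk_car1 : ∀ a : Fin 4, chk (cH 1 a 1) (cD 0 (pi1 a.castSucc) (pi1 a.succ) (-1)) = true := by
  decide +kernel

section Word

variable {K : Type*} [Field K]

theorem wordMat_append (l₁ l₂ : List (ℕ × Mon)) :
    chevE8.wordMat K (evW K (l₁ ++ l₂) 1 1) = chevE8.wordMat K (evW K l₁ 1 1) * chevE8.wordMat K (evW K l₂ 1 1) := by
  simp [evW, ChevalleyDatum.wordMat, List.map_append, List.prod_append]

/-- `n_ij` in `SL₅(K)` -/
noncomputable def nT {i j : Fin 5} (h : i ≠ j) : SpecialLinearGroup (Fin 5) K :=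
  SpecialLinearGroup.transvection h 1 * SpecialLinearGroup.transvection h.symm (-1) *
    SpecialLinearGroup.transvection h 1

theorem ph_nT (φ : SpecialLinearGroup (Fin 5) K →* ↥(chevE8.group K)) (r : Fin 5 → Fin 5 → ℕ)
    (s : Fin 5 → Fin 5 → ℤ)
    (hφ : ∀ {i j : Fin 5} (hij : i ≠ j) (c : K), φ (SpecialLinearGroup.transvection hij c) = X (r i j) ((s i j : K) * c))
    {i j : Fin 5} (h : i ≠ j) :
    (((φ (nT h) : ↥(chevE8.group K)) : GL chevE8.Idx K) : Matrix chevE8.Idx chevE8.Idx K) =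
      chevE8.wordMat K (evW K (nw r s i j) 1 1) := by
  rw [nT, map_mul, map_mul, hφ, hφ]
  simp only [nw, evW, ChevalleyDatum.wordMat, List.map_cons, List.map_nil, List.prod_cons, List.prod_nil, Mon.ev,
    pow_zero, mul_one, Int.cast_neg, mul_neg]
  rw [← Matrix.mul_assoc]
  rfl

/-- the matrix `P` over `ℤ` -/
def Pz : Matrix (Fin 5) (Fin 5) ℤ :=
  !![-1, 0, 0, 0, 0; 0, 0, -1, 0, 0; 0, 0, 0, 0, -1; 0, -1, 0, 0, 0; 0, 0, 0, -1, 0]

variable (K) in
/-- the element `P = -(i ↦ 3i)` of `SL₅(K)` -/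
def PP : SpecialLinearGroup (Fin 5) K :=
  ⟨Pz.map (Int.castRingHom K), by
    have h : Pz.det = 1 := by decide +kernel
    have := (RingHom.map_det (Int.castRingHom K) Pz)
    rw [h, map_one] at this
    exact this.symm⟩

theorem coe_PP : ((PP K : SpecialLinearGroup (Fin 5) K) : Matrix (Fin 5) (Fin 5) K) =
    !![-1, 0, 0, 0, 0; 0, 0, -1, 0, 0; 0, 0, 0, 0, -1; 0, -1, 0, 0, 0; 0, 0, 0, -1, 0] := by
  ext i j
  fin_cases i <;> fin_cases j <;> simp [PP, Pz]

theorem coe_tv {i j : Fin 5} (h : i ≠ j) (c : ℤ) :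
    ((SpecialLinearGroup.transvection h (c : K) : SpecialLinearGroup (Fin 5) K) : Matrix (Fin 5) (Fin 5) K) =
      (Matrix.transvection i j c).map (Int.castRingHom K) := by
  show Matrix.transvection i j (c : K) = _
  ext a b
  simp only [Matrix.transvection, Matrix.map_apply, Matrix.add_apply, map_add, Matrix.one_apply, Matrix.single_apply]
  split_ifs <;> simp

theorem coe_mul' (A B : SpecialLinearGroup (Fin 5) K) :
    ((A * B : SpecialLinearGroup (Fin 5) K) : Matrix (Fin 5) (Fin 5) K) =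
      (A : Matrix (Fin 5) (Fin 5) K) * (B : Matrix (Fin 5) (Fin 5) K) := rfl

theorem coe_nT {i j : Fin 5} (h : i ≠ j) :
    ((nT h : SpecialLinearGroup (Fin 5) K) : Matrix (Fin 5) (Fin 5) K) =
      (Matrix.transvection i j (1 : ℤ) * Matrix.transvection j i (-1 : ℤ) * Matrix.transvection i j (1 : ℤ)).map
        (Int.castRingHom K) := by
  have h1 := coe_tv (K := K) h 1
  have h2 := coe_tv (K := K) h.symm (-1)
  rw [Int.cast_one] at h1
  rw [Int.cast_neg, Int.cast_one] at h2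
  rw [nT, coe_mul', coe_mul', h1, h2, Matrix.map_mul, Matrix.map_mul]

theorem PP_eq : PP K = nT (by decide : (0 : Fin 5) ≠ 1) * (nT (by decide : (0 : Fin 5) ≠ 1) *
    (nT (by decide : (1 : Fin 5) ≠ 2) * (nT (by decide : (1 : Fin 5) ≠ 3) * nT (by decide : (3 : Fin 5) ≠ 4)))) := by
  refine Subtype.ext ?_
  change ((PP K : SpecialLinearGroup (Fin 5) K) : Matrix (Fin 5) (Fin 5) K) =
    ((nT (by decide : (0 : Fin 5) ≠ 1) * (nT (by decide : (0 : Fin 5) ≠ 1) *
    (nT (by decide : (1 : Fin 5) ≠ 2) * (nT (by decide : (1 : Fin 5) ≠ 3) * nT (by decide : (3 : Fin 5) ≠ 4)))) :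
      SpecialLinearGroup (Fin 5) K) : Matrix (Fin 5) (Fin 5) K)
  rw [coe_mul', coe_mul', coe_mul', coe_mul', coe_nT, coe_nT, coe_nT, coe_nT, ← Matrix.map_mul,
    ← Matrix.map_mul, ← Matrix.map_mul, ← Matrix.map_mul]
  have e : Pz = (Matrix.transvection 0 1 (1 : ℤ) * Matrix.transvection 1 0 (-1 : ℤ) * Matrix.transvection 0 1 (1 : ℤ)) *
      ((Matrix.transvection 0 1 (1 : ℤ) * Matrix.transvection 1 0 (-1 : ℤ) * Matrix.transvection 0 1 (1 : ℤ)) *
      ((Matrix.transvection 1 2 (1 : ℤ) * Matrix.transvection 2 1 (-1 : ℤ) * Matrix.transvection 1 2 (1 : ℤ)) *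
      ((Matrix.transvection 1 3 (1 : ℤ) * Matrix.transvection 3 1 (-1 : ℤ) * Matrix.transvection 1 3 (1 : ℤ)) *
      (Matrix.transvection 3 4 (1 : ℤ) * Matrix.transvection 4 3 (-1 : ℤ) * Matrix.transvection 3 4 (1 : ℤ))))) := by
    decide +kernel
  rw [← e]
  rfl

theorem ph_PP (φ : SpecialLinearGroup (Fin 5) K →* ↥(chevE8.group K)) (r : Fin 5 → Fin 5 → ℕ)
    (s : Fin 5 → Fin 5 → ℤ)
    (hφ : ∀ {i j : Fin 5} (hij : i ≠ j) (c : K), φ (SpecialLinearGroup.transvection hij c) = X (r i j) ((s i j : K) * c)) :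
    (((φ (PP K) : ↥(chevE8.group K)) : GL chevE8.Idx K) : Matrix chevE8.Idx chevE8.Idx K) =
      chevE8.wordMat K (evW K (pw r s) 1 1) := by
  have hh := fun {i j : Fin 5} (h : i ≠ j) => ph_nT φ r s hφ h
  rw [PP_eq, map_mul, map_mul, map_mul, map_mul, pw, wordMat_append, wordMat_append, wordMat_append,
    wordMat_append, ← hh (by decide : (0 : Fin 5) ≠ 1), ← hh (by decide : (1 : Fin 5) ≠ 2),
    ← hh (by decide : (1 : Fin 5) ≠ 3), ← hh (by decide : (3 : Fin 5) ≠ 4)]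
  rfl

variable (K) in
/-- `N = φ₁(P) φ₂(P)` -/
noncomputable def NN : ↥(chevE8.group K) := ph1 K (PP K) * ph2 K (PP K)

theorem coe_NN : (((NN K : ↥(chevE8.group K)) : GL chevE8.Idx K) : Matrix chevE8.Idx chevE8.Idx K) =
    chevE8.wordMat K (evW K Nw 1 1) := by
  rw [Nw, wordMat_append, ← ph_PP (ph1 K) rt1 sg1 (fun hij c => ph1_tv K hij c),
    ← ph_PP (ph2 K) rt2 sg2 (fun hij c => ph2_tv K hij c)]
  rfl

theorem ev_neg' (D : ChevalleyDatum) (l : List Term) :
    ev D K (l.map fun a => (⟨a.k, -a.c, a.i, a.j⟩ : Term)) 1 1 = -ev D K l 1 1 := by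
  induction l with
  | nil => simp [ev]
  | cons a l ih =>
    rw [List.map_cons, ev_cons, ev_cons, ih, neg_add]
    congr 1
    simp [Term.ev]

theorem ev_of_norm (D : ChevalleyDatum) (w : List (ℕ × Mon)) (v v' : List Term)
    (h : (norm (actW D false w v ++ v'.map fun a => (⟨a.k, -a.c, a.i, a.j⟩ : Term))).isEmpty = true) :
    D.wordMat K (evW K w 1 1) *ᵥ ev D K v 1 1 = ev D K v' 1 1 := by
  rw [← ev_actW false w v 1 1 (by simp)]
  rw [List.isEmpty_iff] at h
  have h2 := ev_norm (D := D) (F := K)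
    (actW D false w v ++ v'.map fun a => (⟨a.k, -a.c, a.i, a.j⟩ : Term)) 1 1
  rw [h, ev_nil, ev_append, ev_neg', ← sub_eq_add_neg] at h2
  exact sub_eq_zero.1 h2.symm

theorem ev_of_chk {v v' : List Term} (h : chk v v' = true) :
    (((NN K : ↥(chevE8.group K)) : GL chevE8.Idx K) : Matrix chevE8.Idx chevE8.Idx K) *ᵥ ev chevE8 K v 1 1 =
      ev chevE8 K v' 1 1 := by
  rw [coe_NN]
  exact ev_of_norm chevE8 Nw v v' h

end Word

section Lin

variable {K : Type*} [Field K] {V : Type*} [AddCommGroup V] [Module K V]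

theorem u_eq (u : Fin 5 → V) (h : Fin 4 → V) (hu : ∀ a : Fin 4, u a.castSucc - u a.succ = h a) (i : Fin 5) :
    u i = u 4 + ∑ b : Fin 4, if i ≤ b.castSucc then h b else 0 := by
  have h0 : u 0 - u 1 = h 0 := hu 0
  have h1 : u 1 - u 2 = h 1 := hu 1
  have h2 : u 2 - u 3 = h 2 := hu 2
  have h3 : u 3 - u 4 = h 3 := hu 3
  have e0 : ∑ b : Fin 4, (if (0 : Fin 5) ≤ b.castSucc then h b else 0) = h 0 + h 1 + h 2 + h 3 := by
    rw [Fin.sum_univ_four]; rfl
  have e1 : ∑ b : Fin 4, (if (1 : Fin 5) ≤ b.castSucc then h b else 0) = 0 + h 1 + h 2 + h 3 := by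
    rw [Fin.sum_univ_four]; rfl
  have e2 : ∑ b : Fin 4, (if (2 : Fin 5) ≤ b.castSucc then h b else 0) = 0 + 0 + h 2 + h 3 := by
    rw [Fin.sum_univ_four]; rfl
  have e3 : ∑ b : Fin 4, (if (3 : Fin 5) ≤ b.castSucc then h b else 0) = 0 + 0 + 0 + h 3 := by
    rw [Fin.sum_univ_four]; rfl
  have e4 : ∑ b : Fin 4, (if (4 : Fin 5) ≤ b.castSucc then h b else 0) = 0 + 0 + 0 + 0 := by
    rw [Fin.sum_univ_four]; rfl
  match i with
  | 0 => rw [e0, ← h0, ← h1, ← h2, ← h3]; abel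
  | 1 => rw [e1, ← h1, ← h2, ← h3]; abel
  | 2 => rw [e2, ← h2, ← h3]; abel
  | 3 => rw [e3, ← h3]; abel
  | 4 => rw [e4]; abel

theorem lin_ext (L : Matrix (Fin 5) (Fin 5) K →ₗ[K] V) (h1 : ∀ i j, i ≠ j → L (Matrix.single i j 1) = 0)
    (h2 : ∀ a : Fin 4, L (Matrix.single a.castSucc a.castSucc 1 - Matrix.single a.succ a.succ 1) = 0)
    (A : Matrix (Fin 5) (Fin 5) K) (hA : A.trace = 0) : L A = 0 := by
  have h3 : ∀ i : Fin 5, L (Matrix.single i i 1) = L (Matrix.single 4 4 1) := by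
    intro i
    have := u_eq (fun i => L (Matrix.single i i (1 : K))) (fun _ => 0) (by
      intro a
      have := h2 a
      rwa [map_sub] at this) i
    simpa using this
  have h4 : L A = ∑ i : Fin 5, ∑ j : Fin 5, A i j • L (Matrix.single i j 1) := by
    conv_lhs => rw [Matrix.matrix_eq_sum_single A]
    rw [map_sum]
    refine Finset.sum_congr rfl fun i _ => ?_
    rw [map_sum]
    refine Finset.sum_congr rfl fun j _ => ?_
    rw [← map_smul, Matrix.smul_single, smul_eq_mul, mul_one]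
  have h5 : ∀ i : Fin 5, ∑ j : Fin 5, A i j • L (Matrix.single i j 1) = A i i • L (Matrix.single 4 4 1) := by
    intro i
    rw [Finset.sum_eq_single i, h3]
    · intro j _ hj
      rw [h1 i j (Ne.symm hj), smul_zero]
    · intro hi
      exact absurd (Finset.mem_univ i) hi
  rw [h4, Finset.sum_congr rfl fun i _ => h5 i, ← Finset.sum_smul]
  have : ∑ i : Fin 5, A i i = A.trace := rfl
  rw [this, hA, zero_smul]

end Lin

section Perm

variable {K : Type*} [Field K]

/-- `M0` over `ℤ` -/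
def M0z : Matrix (Fin 5) (Fin 5) ℤ :=
  !![1, 0, 0, 0, 0; 0, 0, 1, 0, 0; 0, 0, 0, 0, -1; 0, 1, 0, 0, 0; 0, 0, 0, 1, 0]
/-- `M1` over `ℤ` -/
def M1z : Matrix (Fin 5) (Fin 5) ℤ :=
  !![0, 1, 0, 0, 0; 0, 0, 0, -1, 0; 1, 0, 0, 0, 0; 0, 0, -1, 0, 0; 0, 0, 0, 0, 1]

theorem M0_eq : (M0 : Matrix (Fin 5) (Fin 5) K) = M0z.map (Int.castRingHom K) := by
  ext i j
  fin_cases i <;> fin_cases j <;> simp [M0, M0z]

theorem M1_eq : (M1 : Matrix (Fin 5) (Fin 5) K) = M1z.map (Int.castRingHom K) := by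
  ext i j
  fin_cases i <;> fin_cases j <;> simp [M1, M1z]

theorem single_map (i j : Fin 5) (c : ℤ) :
    (Matrix.single i j c : Matrix (Fin 5) (Fin 5) ℤ).map (Int.castRingHom K) = Matrix.single i j (c : K) := by
  ext a b
  simp only [Matrix.map_apply, Matrix.single_apply]
  split_ifs <;> simp

theorem M0_single (i j : Fin 5) : (M0 : Matrix (Fin 5) (Fin 5) K) * Matrix.single i j 1 * M0ᵀ =
    Matrix.single (pi0 i) (pi0 j) ((eps0 i * eps0 j : ℤ) : K) := by
  have h : ∀ i j, M0z * Matrix.single i j 1 * M0zᵀ = Matrix.single (pi0 i) (pi0 j) (eps0 i * eps0 j) := by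
    decide +kernel
  rw [← single_map, ← h, Matrix.map_mul, Matrix.map_mul, single_map, M0_eq, Matrix.transpose_map, Int.cast_one]

theorem M1_single (i j : Fin 5) : (M1 : Matrix (Fin 5) (Fin 5) K) * (Matrix.single i j 1)ᵀ * M1ᵀ =
    Matrix.single (pi1 j) (pi1 i) ((eps1 i * eps1 j : ℤ) : K) := by
  have h : ∀ i j, M1z * Matrix.single j i 1 * M1zᵀ = Matrix.single (pi1 j) (pi1 i) (eps1 i * eps1 j) := by
    decide +kernel
  rw [← single_map, ← h, Matrix.map_mul, Matrix.map_mul, single_map, M1_eq, Matrix.transpose_map, Int.cast_one,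
    Matrix.transpose_single]

end Perm

section Main

variable {K : Type*} [Field K]

theorem ev_cE (t : Fin 2) (i j : Fin 5) (c : ℤ) :
    ev chevE8 K (cE t i j c) 1 1 = (c : K) • ev chevE8 K (cE t i j 1) 1 1 := by
  simp only [cE, ev_cons, ev_nil, add_zero, Term.ev, smul_smul]
  congr 1
  push_cast
  ring

theorem ev_cH (t : Fin 2) (a : Fin 4) (c : ℤ) :
    ev chevE8 K (cH t a c) 1 1 = (c : K) • ev chevE8 K (cH t a 1) 1 1 := by
  unfold cH
  generalize List.range 8 = l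
  induction l with
  | nil => simp [ev]
  | cons k l ih =>
    rw [List.map_cons, List.map_cons, ev_cons, ev_cons, ih, smul_add]
    congr 1
    simp only [Term.ev, smul_smul]
    congr 1
    push_cast
    ring

theorem ev_cD (t : Fin 2) (i j : Fin 5) (c : ℤ) (u : Fin 5 → chevE8.Idx → K)
    (hu : ∀ a : Fin 4, u a.castSucc - u a.succ = ev chevE8 K (cH t a 1) 1 1) :
    ev chevE8 K (cD t i j c) 1 1 = (c : K) • (u i - u j) := by
  have e : ev chevE8 K (cD t i j c) 1 1 = ∑ b : Fin 4,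
      ((c * ((if i ≤ b.castSucc then 1 else 0) - (if j ≤ b.castSucc then 1 else 0)) : ℤ) : K) •
        ev chevE8 K (cH t b 1) 1 1 := by
    unfold cD
    have : ∀ l : List (Fin 4), ev chevE8 K (l.flatMap fun b =>
        cH t b (c * ((if i ≤ b.castSucc then 1 else 0) - (if j ≤ b.castSucc then 1 else 0)))) 1 1 =
        (l.map fun b => ((c * ((if i ≤ b.castSucc then 1 else 0) - (if j ≤ b.castSucc then 1 else 0)) : ℤ) : K) •
        ev chevE8 K (cH t b 1) 1 1).sum := by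
      intro l
      induction l with
      | nil => simp [ev]
      | cons b l ih => rw [List.flatMap_cons, ev_append, ih, List.map_cons, List.sum_cons, ev_cH]
    rw [this, Fin.sum_univ_def]
  rw [e, u_eq u _ hu i, u_eq u _ hu j, add_sub_add_left_eq_sub, ← Finset.sum_sub_distrib, Finset.smul_sum]
  refine Finset.sum_congr rfl fun b _ => ?_
  push_cast
  split_ifs <;> simp

/-- **the action of `N`** for any map `io` with the values of the frame -/
theorem N_act_of (io : (Matrix (Fin 5) (Fin 5) K × Matrix (Fin 5) (Fin 5) K) →ₗ[K] (chevE8.Idx → K))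
    (ho0 : ∀ i j, i ≠ j → io (Matrix.single i j 1, 0) = ev chevE8 K (cE 0 i j 1) 1 1)
    (ho1 : ∀ i j, i ≠ j → io (0, Matrix.single i j 1) = ev chevE8 K (cE 1 i j 1) 1 1)
    (hc0 : ∀ a : Fin 4, io (Matrix.single a.castSucc a.castSucc 1 - Matrix.single a.succ a.succ 1, 0) =
      ev chevE8 K (cH 0 a 1) 1 1)
    (hc1 : ∀ a : Fin 4, io (0, Matrix.single a.castSucc a.castSucc 1 - Matrix.single a.succ a.succ 1) =
      ev chevE8 K (cH 1 a 1) 1 1)
    (A0 A1 : Matrix (Fin 5) (Fin 5) K) (h0 : A0.trace = 0) (h1 : A1.trace = 0) :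
    (((NN K : ↥(chevE8.group K)) : GL chevE8.Idx K) : Matrix chevE8.Idx chevE8.Idx K) *ᵥ io (A0, A1) =
      io (-(M1 * A1ᵀ * M1ᵀ), M0 * A0 * M0ᵀ) := by
  set N : Matrix chevE8.Idx chevE8.Idx K := (((NN K : ↥(chevE8.group K)) : GL chevE8.Idx K) :
    Matrix chevE8.Idx chevE8.Idx K) with hN
  have s0 : ∀ (c : K) (A : Matrix (Fin 5) (Fin 5) K), io (c • A, 0) = c • io (A, 0) := by
    intro c A
    rw [← map_smul, Prod.smul_mk, smul_zero]
  have s1 : ∀ (c : K) (A : Matrix (Fin 5) (Fin 5) K), io (0, c • A) = c • io (0, A) := by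
    intro c A
    rw [← map_smul, Prod.smul_mk, smul_zero]
  have a0 : ∀ A B : Matrix (Fin 5) (Fin 5) K, io (A - B, 0) = io (A, 0) - io (B, 0) := by
    intro A B
    rw [← map_sub, Prod.mk_sub_mk, sub_zero]
  have a1 : ∀ A B : Matrix (Fin 5) (Fin 5) K, io (0, A - B) = io (0, A) - io (0, B) := by
    intro A B
    rw [← map_sub, Prod.mk_sub_mk, sub_zero]
  have t0 : ∀ (i j : Fin 5) (c : K), Matrix.single i j c = c • Matrix.single i j (1 : K) := by
    intro i j c
    rw [Matrix.smul_single, smul_eq_mul, mul_one]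
  -- first component
  have k0 : ∀ A : Matrix (Fin 5) (Fin 5) K, A.trace = 0 → N *ᵥ io (A, 0) = io (0, M0 * A * M0ᵀ) := by
    intro A hA
    let L : Matrix (Fin 5) (Fin 5) K →ₗ[K] (chevE8.Idx → K) :=
      { toFun := fun A => N *ᵥ io (A, 0) - io (0, M0 * A * M0ᵀ)
        map_add' := by
          intro A B
          have e1 : io (A + B, 0) = io (A, 0) + io (B, 0) := by rw [← map_add, Prod.mk_add_mk, add_zero]
          have e2 : io (0, M0 * (A + B) * M0ᵀ) = io (0, M0 * A * M0ᵀ) + io (0, M0 * B * M0ᵀ) := by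
            rw [← map_add, Prod.mk_add_mk, add_zero, Matrix.mul_add, Matrix.add_mul]
          rw [e1, e2, Matrix.mulVec_add]
          abel
        map_smul' := by
          intro c A
          have e2 : io (0, M0 * (c • A) * M0ᵀ) = c • io (0, M0 * A * M0ᵀ) := by
            rw [← s1, Matrix.mul_smul, Matrix.smul_mul]
          rw [s0, e2, Matrix.mulVec_smul, smul_sub, RingHom.id_apply] }
    have := lin_ext L (by
      intro i j hij
      show N *ᵥ io (Matrix.single i j 1, 0) - io (0, M0 * Matrix.single i j 1 * M0ᵀ) = 0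
      have hij' : pi0 i ≠ pi0 j := by
        revert hij; revert i j; decide
      rw [ho0 i j hij, hN, ev_of_chk (chk_off0 i j hij), M0_single, t0, s1, ho1 _ _ hij', ev_cE, sub_self])
      (by
      intro a
      show N *ᵥ io (Matrix.single a.castSucc a.castSucc 1 - Matrix.single a.succ a.succ 1, 0) -
        io (0, M0 * (Matrix.single a.castSucc a.castSucc 1 - Matrix.single a.succ a.succ 1) * M0ᵀ) = 0
      have he : ∀ i : Fin 5, ((eps0 i * eps0 i : ℤ) : K) = 1 := by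
        intro i
        have : eps0 i * eps0 i = 1 := by revert i; decide
        rw [this, Int.cast_one]
      rw [hc0 a, hN, ev_of_chk (chk_car0 a), Matrix.mul_sub, Matrix.sub_mul, M0_single, M0_single, he, he, a1,
        ev_cD 1 _ _ 1 (fun i => io (0, Matrix.single i i 1)) (fun b => by rw [← a1, hc1]), Int.cast_one, one_smul,
        sub_self]) A hA
    exact sub_eq_zero.1 this
  have k1 : ∀ A : Matrix (Fin 5) (Fin 5) K, A.trace = 0 → N *ᵥ io (0, A) = io (-(M1 * Aᵀ * M1ᵀ), 0) := by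
    intro A hA
    let L : Matrix (Fin 5) (Fin 5) K →ₗ[K] (chevE8.Idx → K) :=
      { toFun := fun A => N *ᵥ io (0, A) - io (-(M1 * Aᵀ * M1ᵀ), 0)
        map_add' := by
          intro A B
          have e1 : io (0, A + B) = io (0, A) + io (0, B) := by rw [← map_add, Prod.mk_add_mk, add_zero]
          have e2 : io (-(M1 * (A + B)ᵀ * M1ᵀ), 0) = io (-(M1 * Aᵀ * M1ᵀ), 0) + io (-(M1 * Bᵀ * M1ᵀ), 0) := by
            rw [← map_add, Prod.mk_add_mk, add_zero, Matrix.transpose_add, Matrix.mul_add, Matrix.add_mul, neg_add]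
          rw [e1, e2, Matrix.mulVec_add]
          abel
        map_smul' := by
          intro c A
          have e2 : io (-(M1 * (c • A)ᵀ * M1ᵀ), 0) = c • io (-(M1 * Aᵀ * M1ᵀ), 0) := by
            rw [← s0, Matrix.transpose_smul, Matrix.mul_smul, Matrix.smul_mul, smul_neg]
          rw [s1, e2, Matrix.mulVec_smul, smul_sub, RingHom.id_apply] }
    have n0 : ∀ A : Matrix (Fin 5) (Fin 5) K, io (-A, 0) = -io (A, 0) := by
      intro A
      rw [← map_neg, Prod.neg_mk, neg_zero]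
    have := lin_ext L (by
      intro i j hij
      show N *ᵥ io (0, Matrix.single i j 1) - io (-(M1 * (Matrix.single i j 1)ᵀ * M1ᵀ), 0) = 0
      have hij' : pi1 j ≠ pi1 i := by
        revert hij; revert i j; decide
      rw [ho1 i j hij, hN, ev_of_chk (chk_off1 i j hij), M1_single, n0, t0, s0, ho0 _ _ hij', ev_cE, Int.cast_neg,
        neg_smul, sub_self])
      (by
      intro a
      show N *ᵥ io (0, Matrix.single a.castSucc a.castSucc 1 - Matrix.single a.succ a.succ 1) -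
        io (-(M1 * (Matrix.single a.castSucc a.castSucc 1 - Matrix.single a.succ a.succ 1)ᵀ * M1ᵀ), 0) = 0
      have he : ∀ i : Fin 5, ((eps1 i * eps1 i : ℤ) : K) = 1 := by
        intro i
        have : eps1 i * eps1 i = 1 := by revert i; decide
        rw [this, Int.cast_one]
      rw [hc1 a, hN, ev_of_chk (chk_car1 a), Matrix.transpose_sub, Matrix.mul_sub, Matrix.sub_mul, M1_single,
        M1_single, he, he, n0, a0,
        ev_cD 0 _ _ (-1) (fun i => io (Matrix.single i i 1, 0)) (fun b => by rw [← a0, hc0]), Int.cast_neg,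
        Int.cast_one, neg_smul, one_smul, sub_self]) A hA
    exact sub_eq_zero.1 this
  have e : io (A0, A1) = io (A0, 0) + io (0, A1) := by rw [← map_add, Prod.mk_add_mk, add_zero, zero_add]
  have e' : io (-(M1 * A1ᵀ * M1ᵀ), M0 * A0 * M0ᵀ) = io (0, M0 * A0 * M0ᵀ) + io (-(M1 * A1ᵀ * M1ᵀ), 0) := by
    rw [← map_add, Prod.mk_add_mk, add_zero, zero_add]
  rw [e, e', Matrix.mulVec_add, k0 A0 h0, k1 A1 h1]

end Main

section Frob

open Cfsg.Agent.GpExc.Field (emb coe_emb glMap)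
open Cfsg.Agent.BpExc.FamUntw (phi)

variable {K : Type*} [Field K] {K' : Type*} [Field K'] (f : K →+* K')

theorem map_PP : SpecialLinearGroup.map f (PP K) = PP K' := by
  refine Subtype.ext ?_
  change (Pz.map (Int.castRingHom K)).map f = Pz.map (Int.castRingHom K')
  ext i j
  simp

theorem emb_NN : emb hE8 f (NN K) = NN K' := by
  rw [NN, map_mul, emb_ph1, emb_ph2, map_PP, NN]

theorem phi_NN {k : Type*} [Field k] {p : ℕ} [Fact p.Prime] [CharP k p] [PerfectRing k p] {n : ℕ} :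
    phi chevE8 k p n (NN k) = NN k := by
  rw [NN, map_mul, phi_ph1, phi_ph2, map_PP]

theorem NN_map : ((((NN K : ↥(chevE8.group K)) : GL chevE8.Idx K) : Matrix chevE8.Idx chevE8.Idx K)).map f =
    (((NN K' : ↥(chevE8.group K')) : GL chevE8.Idx K') : Matrix chevE8.Idx chevE8.Idx K') := by
  rw [← emb_NN f, coe_emb]
  rfl

end Frob

end Cfsg.Agent.H183.E8F
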